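import Mathlib
import Groth.Prelude.Def_Dyn

/-!
Conjugated orbits as convolution products; representing ideals for conditions on limits.
-/

set_option autoImplicit false

universe u

open WithConv LaurentPolynomial

namespace Groth.Agent.DynLib

variable {k A : Type u} [CommRing k] [CommRing A] [HopfAlgebra k A]

theorem conv3_eq {C : Type u} [CommRing C] [Algebra k C] (f g h : A →ₐ[k] C) :
    Dyn.conv3 k A f g h = (toConv f * toConv g * toConv h).ofConv := by
  simp only [Dyn.conv3, AlgHom.convMul_def, ofConv_toConv]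
  rw [← AlgHom.comp_assoc (Algebra.TensorProduct.map _ h), ← Algebra.TensorProduct.map_comp, AlgHom.comp_id,
    AlgHom.comp_assoc]

theorem toConv_comp_mul {R R' : Type u} [CommRing R] [Algebra k R] [CommRing R'] [Algebra k R'] (φ : R →ₐ[k] R')
    (f g : WithConv (A →ₐ[k] R)) :
    toConv (φ.comp (f * g).ofConv) = toConv (φ.comp f.ofConv) * toConv (φ.comp g.ofConv) := by
  rw [AlgHom.comp_convMul_distrib]

theorem toConv_comp_one {R R' : Type u} [CommRing R] [Algebra k R] [CommRing R'] [Algebra k R'] (φ : R →ₐ[k] R') :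
    toConv (φ.comp (1 : WithConv (A →ₐ[k] R)).ofConv) = 1 := by
  refine WithConv.ext (AlgHom.ext fun a => ?_)
  exact φ.commutes _

theorem one_ofConv (R : Type u) [CommRing R] [Algebra k R] :
    (Algebra.ofId k R).comp (Bialgebra.counitAlgHom k A) = (1 : WithConv (A →ₐ[k] R)).ofConv :=
  AlgHom.ext fun _ => rfl

/-- The convolution group of points with values in a commutative algebra. -/
noncomputable instance groupPoints {R : Type u} [CommRing R] [Algebra k R] : Group (WithConv (A →ₐ[k] R)) where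
  inv f := toConv (f.ofConv.comp (HopfAlgebra.antipodeAlgHom k A))
  inv_mul_cancel f := by
    refine Eq.trans ?_ (toConv_comp_one (A := A) f.ofConv)
    rw [← AlgHom.antipode_id_cancel, toConv_comp_mul]
    simp

/-- Coefficientwise map of Laurent polynomials. -/
noncomputable def lmap {R R' : Type u} [CommRing R] [Algebra k R] [CommRing R'] [Algebra k R'] (φ : R →ₐ[k] R') :
    R[T;T⁻¹] →ₐ[k] R'[T;T⁻¹] :=
  AddMonoidAlgebra.mapAlgHom ℤ φ

section

variable {R R' : Type u} [CommRing R] [Algebra k R] [CommRing R'] [Algebra k R'] (φ : R →ₐ[k] R')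

theorem lmap_single (n : ℤ) (r : R) :
    lmap φ (AddMonoidAlgebra.single n r) = AddMonoidAlgebra.single n (φ r) :=
  AddMonoidAlgebra.mapAlgHom_single φ n r

theorem coeff_lmap (x : R[T;T⁻¹]) (n : ℤ) : (lmap φ x).coeff n = φ (x.coeff n) := by
  induction x using AddMonoidAlgebra.induction_linear with
  | zero => simp
  | add x y hx hy => simp [map_add, hx, hy]
  | single m r =>
    rw [lmap_single]
    simp only [AddMonoidAlgebra.coeff_single, Finsupp.single_apply, apply_ite φ, map_zero]

theorem lmap_C (r : R) : lmap φ (C r) = C (φ r) := lmap_single φ 0 r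

end

variable (lam : A →ₐc[k] k[T;T⁻¹]) {R : Type u} [CommRing R] [Algebra k R]

/-- Constants. -/
noncomputable abbrev cst : R →ₐ[k] R[T;T⁻¹] := IsScalarTower.toAlgHom k R R[T;T⁻¹]

theorem cst_apply (r : R) : cst (k := k) r = C r := rfl

/-- The orbit as an element of the convolution group. -/
theorem toConv_conjOrbit (g : A →ₐ[k] R) :
    toConv (Dyn.conjOrbit k A lam R g) =
      toConv (Dyn.lamR k A lam R) * toConv (cst.comp g) * (toConv (Dyn.lamR k A lam R))⁻¹ :=
  congrArg toConv (conv3_eq _ _ _)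

theorem conjOrbit_mul (g g' : WithConv (A →ₐ[k] R)) :
    toConv (Dyn.conjOrbit k A lam R (g * g').ofConv) =
      toConv (Dyn.conjOrbit k A lam R g.ofConv) * toConv (Dyn.conjOrbit k A lam R g'.ofConv) := by
  simp only [toConv_conjOrbit, toConv_comp_mul]
  group

theorem conjOrbit_one : toConv (Dyn.conjOrbit k A lam R (1 : WithConv (A →ₐ[k] R)).ofConv) = 1 := by
  rw [toConv_conjOrbit, toConv_comp_one, mul_one, mul_inv_cancel]

theorem conjOrbit_inv (g : WithConv (A →ₐ[k] R)) :
    toConv (Dyn.conjOrbit k A lam R (g⁻¹).ofConv) = (toConv (Dyn.conjOrbit k A lam R g.ofConv))⁻¹ :=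
  eq_inv_of_mul_eq_one_left (by rw [← conjOrbit_mul, inv_mul_cancel, conjOrbit_one])

theorem lmap_comp_lamR {R' : Type u} [CommRing R'] [Algebra k R'] (φ : R →ₐ[k] R') :
    (lmap φ).comp (Dyn.lamR k A lam R) = Dyn.lamR k A lam R' := by
  refine AlgHom.ext fun a => ?_
  show lmap φ (lmap (Algebra.ofId k R) (lam a)) = lmap (Algebra.ofId k R') (lam a)
  refine AddMonoidAlgebra.ext (Finsupp.ext fun n => ?_)
  simp only [coeff_lmap]
  exact φ.commutes _

theorem conjOrbit_comp {R' : Type u} [CommRing R'] [Algebra k R'] (φ : R →ₐ[k] R') (g : A →ₐ[k] R) :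
    (lmap φ).comp (Dyn.conjOrbit k A lam R g) = Dyn.conjOrbit k A lam R' (φ.comp g) := by
  refine WithConv.toConv_injective ?_
  rw [← ofConv_toConv (Dyn.conjOrbit k A lam R g), toConv_conjOrbit, toConv_conjOrbit, toConv_comp_mul, toConv_comp_mul]
  congr 1
  · congr 1
    · exact congrArg toConv (lmap_comp_lamR lam φ)
    · exact congrArg toConv (AlgHom.ext fun a => lmap_C φ (g a))
  · exact congrArg toConv (by rw [← lmap_comp_lamR lam φ]; rfl)

/-- Evaluation of Laurent polynomials at `T = 1`. -/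
noncomputable def ev1 : R[T;T⁻¹] →ₐ[k] R :=
  (AddMonoidAlgebra.lift R R ℤ (1 : Multiplicative ℤ →* R)).restrictScalars k

theorem ev1_single (n : ℤ) (r : R) : ev1 (k := k) (AddMonoidAlgebra.single n r : R[T;T⁻¹]) = r := by
  show AddMonoidAlgebra.lift R R ℤ _ (AddMonoidAlgebra.single n r) = r
  rw [AddMonoidAlgebra.lift_single]
  simp

theorem ev1_C (r : R) : ev1 (k := k) (C r) = r := ev1_single 0 r

theorem counit_eq_ev1 (x : k[T;T⁻¹]) : Coalgebra.counit (R := k) x = ev1 (k := k) x := by
  induction x using AddMonoidAlgebra.induction_linear with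
  | zero => simp
  | add x y hx hy => simp [map_add, hx, hy]
  | single m r => rw [ev1_single, AddMonoidAlgebra.counit_single]; simp

theorem ev1_lamR : (ev1 (k := k) (R := R)).comp (Dyn.lamR k A lam R) = (1 : WithConv (A →ₐ[k] R)).ofConv := by
  refine AlgHom.ext fun a => ?_
  show ev1 (k := k) (lmap (Algebra.ofId k R) (lam a)) = algebraMap k R (Coalgebra.counit (R := k) a)
  have h : Coalgebra.counit (R := k) (lam a) = Coalgebra.counit (R := k) a := CoalgHomClass.counit_comp_apply lam a
  rw [← h, counit_eq_ev1]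
  generalize lam a = x
  induction x using AddMonoidAlgebra.induction_linear with
  | zero => simp
  | add x y hx hy => simp [map_add, hx, hy]
  | single m r => rw [lmap_single, ev1_single, ev1_single]; rfl

theorem ev1_conjOrbit (g : A →ₐ[k] R) : (ev1 (k := k)).comp (Dyn.conjOrbit k A lam R g) = g := by
  refine WithConv.toConv_injective ?_
  rw [← ofConv_toConv (Dyn.conjOrbit k A lam R g), toConv_conjOrbit, toConv_comp_mul, toConv_comp_mul]
  have h1 : toConv ((ev1 (k := k)).comp (toConv (Dyn.lamR k A lam R)).ofConv) = 1 :=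
    congrArg toConv (ev1_lamR lam)
  have h2 : toConv ((ev1 (k := k)).comp ((toConv (Dyn.lamR k A lam R))⁻¹).ofConv) = 1 := by
    have := toConv_comp_mul (ev1 (k := k) (R := R)) (toConv (Dyn.lamR k A lam R))⁻¹ (toConv (Dyn.lamR k A lam R))
    rw [inv_mul_cancel, toConv_comp_one, h1, mul_one] at this
    exact this.symm
  rw [h1, h2, one_mul, mul_one]
  exact congrArg toConv (AlgHom.ext fun a => ev1_C (k := k) (g a))

/-- The inclusion of polynomials in Laurent polynomials. -/
noncomputable abbrev tl : Polynomial R →ₐ[k] R[T;T⁻¹] := (Polynomial.toLaurentAlg (R := R)).restrictScalars k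

theorem tl_injective : Function.Injective (tl (k := k) (R := R)) := Polynomial.toLaurent_injective

theorem coeff_tl_neg (f : Polynomial R) (n : ℤ) (hn : n < 0) : (tl (k := k) f).coeff n = 0 := by
  induction f using Polynomial.induction_on' with
  | add f g hf hg => simp only [map_add, AddMonoidAlgebra.coeff_add, Finsupp.add_apply, hf, hg, add_zero, Polynomial.coeff_add]
  | monomial m r =>
    show (Polynomial.toLaurent (Polynomial.monomial m r)).coeff n = 0
    rw [← Polynomial.C_mul_X_pow_eq_monomial, Polynomial.toLaurent_C_mul_X_pow, ← LaurentPolynomial.single_eq_C_mul_T]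
    rw [AddMonoidAlgebra.coeff_single, Finsupp.single_apply, if_neg (by omega)]

theorem coeff_tl_zero (f : Polynomial R) : (tl (k := k) f).coeff 0 = f.coeff 0 := by
  induction f using Polynomial.induction_on' with
  | add f g hf hg => simp only [map_add, AddMonoidAlgebra.coeff_add, Finsupp.add_apply, hf, hg, add_zero, Polynomial.coeff_add]
  | monomial m r =>
    show (Polynomial.toLaurent (Polynomial.monomial m r)).coeff 0 = _
    rw [← Polynomial.C_mul_X_pow_eq_monomial, Polynomial.toLaurent_C_mul_X_pow, ← LaurentPolynomial.single_eq_C_mul_T]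
    rw [AddMonoidAlgebra.coeff_single, Finsupp.single_apply, Polynomial.coeff_C_mul_X_pow]
    rcases Nat.eq_zero_or_pos m with rfl | hm
    · simp
    · rw [if_neg (by omega), if_neg (by omega)]

theorem mem_range_tl (x : R[T;T⁻¹]) (hx : ∀ n < 0, x.coeff n = 0) : x ∈ (tl (k := k) (R := R)).range := by
  classical
  rw [← AddMonoidAlgebra.sum_coeff_single x]
  refine Subalgebra.sum_mem _ fun n hn => ?_
  have h0 : 0 ≤ n := not_lt.1 fun h => Finsupp.mem_support_iff.1 hn (hx n h)
  lift n to ℕ using h0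
  refine ⟨Polynomial.C (x.coeff n) * Polynomial.X ^ n, ?_⟩
  show Polynomial.toLaurent _ = _
  rw [Polynomial.toLaurent_C_mul_X_pow, ← LaurentPolynomial.single_eq_C_mul_T]

theorem limExists_iff (g : A →ₐ[k] R) :
    Dyn.LimExists k A lam R g ↔ ∀ a, ∀ n < 0, (Dyn.conjOrbit k A lam R g a).coeff n = 0 := by
  refine ⟨fun ⟨h, hh⟩ a n hn => ?_, fun H => ?_⟩
  · rw [← hh]
    exact coeff_tl_neg (k := k) (h a) n hn
  · refine ⟨(AlgEquiv.ofInjective tl tl_injective).symm.toAlgHom.comp
      ((Dyn.conjOrbit k A lam R g).codRestrict (tl (k := k)).range fun a => mem_range_tl _ (H a)),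
      AlgHom.ext fun a => ?_⟩
    exact congrArg Subtype.val ((AlgEquiv.ofInjective tl tl_injective).apply_symm_apply _)

theorem limIsOne_iff (g : A →ₐ[k] R) :
    Dyn.LimIsOne k A lam R g ↔ Dyn.LimExists k A lam R g ∧
      ∀ a, (Dyn.conjOrbit k A lam R g a).coeff 0 = algebraMap k R (Coalgebra.counit (R := k) a) := by
  constructor
  · rintro ⟨h, hh, h0⟩
    refine ⟨⟨h, hh⟩, fun a => ?_⟩
    rw [← hh]
    refine (coeff_tl_zero (k := k) (h a)).trans ?_
    have := DFunLike.congr_fun h0 a
    rwa [AlgHom.comp_apply, AlgHom.restrictScalars_apply, ← Polynomial.coeff_zero_eq_aeval_zero] at this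
  · rintro ⟨⟨h, hh⟩, h0⟩
    refine ⟨h, hh, AlgHom.ext fun a => ?_⟩
    rw [AlgHom.comp_apply, AlgHom.restrictScalars_apply, ← Polynomial.coeff_zero_eq_aeval_zero, ← coeff_tl_zero (k := k)]
    rw [← hh] at h0
    exact h0 a

/-- A represented condition closed under products, unit and inverse is cut out by a Hopf ideal. -/
theorem isHopfIdeal_of_represents {J : Ideal A} {P : ∀ (R : Type u) [CommRing R] [Algebra k R], (A →ₐ[k] R) → Prop}
    (hJ : Dyn.Represents k A J P)
    (h1 : ∀ (R : Type u) [CommRing R] [Algebra k R], P R (1 : WithConv (A →ₐ[k] R)).ofConv)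
    (hmul : ∀ (R : Type u) [CommRing R] [Algebra k R] (g g' : WithConv (A →ₐ[k] R)),
      P R g.ofConv → P R g'.ofConv → P R (g * g').ofConv)
    (hinv : ∀ (R : Type u) [CommRing R] [Algebra k R] (g : WithConv (A →ₐ[k] R)), P R g.ofConv → P R (g⁻¹).ofConv) :
    J.IsHopfIdeal k := by
  let q : A →ₐ[k] A ⧸ J := Ideal.Quotient.mkₐ k J
  have hq : P (A ⧸ J) q := (hJ _ q).1 fun a ha => Ideal.Quotient.eq_zero_iff_mem.2 ha
  refine @Ideal.IsHopfIdeal.mk k A _ _ _ J ⟨fun x hx => ?_, fun x hx => ?_⟩ fun x hx => ?_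
  · exact (hJ k _).2 (h1 k) x hx
  · have hmk : (Submodule.restrictScalars k J).mkQ = q.toLinearMap := rfl
    rw [hmk]
    let i1 : A ⧸ J →ₐ[k] TensorProduct k (A ⧸ J) (A ⧸ J) := Algebra.TensorProduct.includeLeft
    let i2 : A ⧸ J →ₐ[k] TensorProduct k (A ⧸ J) (A ⧸ J) := Algebra.TensorProduct.includeRight
    have hp : ∀ (i : A ⧸ J →ₐ[k] TensorProduct k (A ⧸ J) (A ⧸ J)), P _ (i.comp q) := fun i =>
      (hJ _ _).1 fun a ha => by rw [AlgHom.comp_apply, Ideal.Quotient.mkₐ_eq_mk, Ideal.Quotient.eq_zero_iff_mem.2 ha, map_zero]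
    have h := (hJ _ _).2 (hmul _ (toConv (i1.comp q)) (toConv (i2.comp q)) (hp i1) (hp i2)) x hx
    simp only [AlgHom.convMul_def, ofConv_toConv, AlgHom.comp_apply, Bialgebra.comulAlgHom_apply] at h
    refine Eq.trans ?_ h
    generalize Coalgebra.comul (R := k) x = y
    induction y with
    | zero => simp only [map_zero]; rfl
    | tmul a b => simp [i1, i2]; rfl
    | add a b ha hb => simp only [map_add, ha, hb]; rfl
  · exact Ideal.Quotient.eq_zero_iff_mem.1 ((hJ _ _).2 (hinv _ (toConv q) hq) x hx)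

theorem limExists_one (R : Type u) [CommRing R] [Algebra k R] :
    Dyn.LimExists k A lam R (1 : WithConv (A →ₐ[k] R)).ofConv :=
  ⟨(1 : WithConv (A →ₐ[k] Polynomial R)).ofConv, WithConv.toConv_injective (by rw [toConv_comp_one, conjOrbit_one])⟩

theorem comp_mul_eq {R' : Type u} [CommRing R'] [Algebra k R'] (φ : R →ₐ[k] R') {h h' : A →ₐ[k] R} {x x' : A →ₐ[k] R'}
    (e : φ.comp h = x) (e' : φ.comp h' = x') :
    φ.comp (toConv h * toConv h').ofConv = (toConv x * toConv x').ofConv := by
  subst e e'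
  rw [AlgHom.comp_convMul_distrib]

theorem comp_inv_eq {R' : Type u} [CommRing R'] [Algebra k R'] (φ : R →ₐ[k] R') {h : A →ₐ[k] R} {x : A →ₐ[k] R'}
    (e : φ.comp h = x) : φ.comp ((toConv h)⁻¹).ofConv = ((toConv x)⁻¹).ofConv := by
  subst e; rfl

theorem limExists_mul (g g' : WithConv (A →ₐ[k] R)) :
    Dyn.LimExists k A lam R g.ofConv → Dyn.LimExists k A lam R g'.ofConv → Dyn.LimExists k A lam R (g * g').ofConv := by
  rintro ⟨h, hh⟩ ⟨h', hh'⟩
  exact ⟨(toConv h * toConv h').ofConv, (comp_mul_eq tl hh hh').trans (congrArg ofConv (conjOrbit_mul lam g g').symm)⟩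

theorem limExists_inv (g : WithConv (A →ₐ[k] R)) :
    Dyn.LimExists k A lam R g.ofConv → Dyn.LimExists k A lam R (g⁻¹).ofConv := by
  rintro ⟨h, hh⟩
  exact ⟨((toConv h)⁻¹).ofConv, (comp_inv_eq tl hh).trans (congrArg ofConv (conjOrbit_inv lam g).symm)⟩

/-- Evaluation at `0`. -/
noncomputable abbrev ev0 : Polynomial R →ₐ[k] R := (Polynomial.aeval (R := R) (0 : R)).restrictScalars k

theorem limIsOne_one (R : Type u) [CommRing R] [Algebra k R] :
    Dyn.LimIsOne k A lam R (1 : WithConv (A →ₐ[k] R)).ofConv :=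
  ⟨(1 : WithConv (A →ₐ[k] Polynomial R)).ofConv, WithConv.toConv_injective (by rw [toConv_comp_one, conjOrbit_one]),
    WithConv.toConv_injective (by rw [toConv_comp_one, one_ofConv])⟩

theorem limIsOne_mul (g g' : WithConv (A →ₐ[k] R)) :
    Dyn.LimIsOne k A lam R g.ofConv → Dyn.LimIsOne k A lam R g'.ofConv → Dyn.LimIsOne k A lam R (g * g').ofConv := by
  rintro ⟨h, hh, h0⟩ ⟨h', hh', h0'⟩
  refine ⟨(toConv h * toConv h').ofConv, (comp_mul_eq tl hh hh').trans (congrArg ofConv (conjOrbit_mul lam g g').symm),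
    (comp_mul_eq ev0 h0 h0').trans ?_⟩
  rw [one_ofConv, toConv_ofConv, one_mul]

theorem limIsOne_inv (g : WithConv (A →ₐ[k] R)) :
    Dyn.LimIsOne k A lam R g.ofConv → Dyn.LimIsOne k A lam R (g⁻¹).ofConv := by
  rintro ⟨h, hh, h0⟩
  refine ⟨((toConv h)⁻¹).ofConv, (comp_inv_eq tl hh).trans (congrArg ofConv (conjOrbit_inv lam g).symm),
    (comp_inv_eq ev0 h0).trans ?_⟩
  rw [one_ofConv, toConv_ofConv, inv_one]

end Groth.Agent.DynLib
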